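import Groth.Agent.H14.DvrUC.Ext
import Groth.Agent.Lib.AlgStack.EtaleBoot
import Groth.Agent.Lib.AlgStack.ChartLift
import Groth.Agent.Lib.AlgStack.OfCharts
import Groth.Agent.H14.FppfDesc.Scheme
import Mathlib.AlgebraicGeometry.Morphisms.FiniteType

/-!
Elementary facts on stacks for the etale topology: charts, finite type, quasi-compactness of slices.
-/

set_option autoImplicit false
set_option backward.isDefEq.respectTransparency false
set_option backward.isDefEq.respectTransparency.types false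

universe u

open CategoryTheory CategoryTheory.Limits AlgebraicGeometry

namespace Groth.Agent.H14.DvrUC

open Groth.Agent.Lib.AlgStack
open Groth.Agent.Lib.AlgStack.ChartLift (overMapComp eq_of_iso)
open Groth.Agent.H14.Chart
open FibCat (IsEquivOver fp fpFst fpSnd fpLift fpIso overCat IsFibGrpd)
open AlgSt (overMap RepByAlgSp1 RepByAlgSpWith IsAlgStack)
open AlgSp (LocP)

variable {S : Scheme.{u}} {𝒳 𝒴 : AlgSt.Cat S}

theorem isAlgStack_overCat_etale (V : Over S) :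
    IsAlgStack Scheme.etalePrecoverage (overCat V) :=
  ⟨EtaleBoot.isStack_etale (Basic.isAlgStack_overCat V).isStack, (Basic.isAlgStack_overCat V).diag,
    (Basic.isAlgStack_overCat V).atlas⟩

theorem isQuasiCompact_overCat_of_isAffine (V : Over S) [IsAffine V.left] :
    AlgSt.IsQuasiCompact (overCat V) :=
  have : Surjective (𝟙 V : V ⟶ V).left := inferInstanceAs (Surjective (𝟙 V.left))
  ⟨V, overMap (𝟙 V), ‹_›,
    Basic.rep_overMap_locP (𝟙 V) Lib.SourceDescent.Scheme.smooth (inferInstanceAs (Smooth (𝟙 V.left))),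
    Basic.rep_overMap_surjective _⟩

/-- Every chart is continuous on points. -/
theorem continuous_ofChart (h : IsFibGrpd 𝒳.p) (ha : AlgSt.HasAtlas (LocP @Smooth) 𝒳) {V : Over S}
    (y : overCat V ⥤ᵇ 𝒳) : Continuous (AlgSt.Points.ofChart y) := by
  refine ⟨fun O hO => ?_⟩
  obtain ⟨U, a, ha, has⟩ := ha
  have : AlgSt.Points.ofChart y ⁻¹' O = AlgSt.Points.ofChart y ⁻¹'
      (AlgSt.Points.ofChart a '' (AlgSt.Points.ofChart a ⁻¹' O)) := by
    ext t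
    constructor
    · intro ht
      obtain ⟨b, hb⟩ := Points.surjective_ofChart h has (AlgSt.Points.ofChart y t)
      exact ⟨b, show _ ∈ O by rw [hb]; exact ht, hb⟩
    · rintro ⟨b, hb, hab⟩
      show _ ∈ O
      rw [← hab]; exact hb
  rw [this]
  exact Points.isOpen_preimage_image h ha y (hO U a ha)

theorem repByAlgSp1_of_diag (hd : RepByAlgSp1 (FibCat.diag (FibCat.toSelf 𝒳))) {W : Over S}
    (x : overCat W ⥤ᵇ 𝒳) : RepByAlgSp1 x :=
  Lib.AlgStack.Diag.repByAlgSp1_diag_iff.1 hd W x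

/-- Local finite type is seen on every pair of smooth charts. -/
theorem lft_of_locQ (h𝒳 : IsFibGrpd 𝒳.p) (h𝒴 : IsFibGrpd 𝒴.p)
    (hd : RepByAlgSp1 (FibCat.diag (FibCat.toSelf 𝒴))) {f : 𝒳 ⥤ᵇ 𝒴}
    (hft : AlgSt.LocQ (LocP @LocallyOfFiniteType) f) {U V : Over S} {x : overCat U ⥤ᵇ 𝒳}
    {y : overCat V ⥤ᵇ 𝒴} (hx : RepByAlgSpWith (LocP @Smooth) x)
    (hy : RepByAlgSpWith (LocP @Smooth) y) {m : U ⟶ V}
    (e : BasedFunctor.comp x f ≅ BasedFunctor.comp (overMap m) y) : LocallyOfFiniteType m.left := by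
  obtain ⟨U₀, V₀, x₀, y₀, h₀, α₀, hx₀, hx₀', hy₀, hh₀⟩ := hft
  have hh₀' : LocallyOfFiniteType h₀.left := AlgSp.locP_yon_map hh₀
  obtain ⟨W₀, c, l, w, -, -, ⟨ec⟩, ⟨el⟩, -, hcs, hcsu, -, hls, -⟩ := ChartLift.exists_chart.{u} h𝒳 x
    (a := x₀) (Rep.repByAlgSp1_of_repByAlgSpWith hx₀)
  have := hcs hx₀
  have := hcsu hx₀'
  have := hls hx
  let E₀ : BasedFunctor.comp (overMap c) x ≅ BasedFunctor.comp (overMap l) x₀ :=
    BasedBasic.isoWhiskerRight ec.symm x ≪≫ BasedBasic.isoWhiskerLeft w (fpIso x x₀) ≪≫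
      BasedBasic.isoWhiskerRight el x₀
  let E₁ : BasedFunctor.comp (overMap (c ≫ m)) y ≅ BasedFunctor.comp (overMap (l ≫ h₀)) y₀ :=
    eqToIso (comp_overMap c m y).symm ≪≫ BasedBasic.isoWhiskerLeft (overMap c) e.symm ≪≫
      BasedBasic.isoWhiskerRight E₀ f ≪≫ BasedBasic.isoWhiskerLeft (overMap l) α₀ ≪≫
        eqToIso (comp_overMap l h₀ y₀)
  let Z := fpLift (F := y) (G := y₀) (overMap (c ≫ m)) (overMap (l ≫ h₀)) E₁
  obtain ⟨W₁, c₁, l₁, w₁, hwe₁, hws₁, ⟨ec₁⟩, ⟨el₁⟩, -, hcs₁, -, -, hls₁, -⟩ :=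
    ChartLift.exists_chart.{u} h𝒴 y (a := y₀) (repByAlgSp1_of_diag hd _)
  have := hcs₁ hy₀
  have := hls₁ hy
  obtain ⟨W₂, c₂, l₂, w₂, -, -, ⟨ec₂⟩, ⟨el₂⟩, hce₂, -, hcsu₂, -⟩ := ChartLift.exists_chart.{u}
    (FibProd.isFibGrpd_fp (Yoneda.isFibGrpd_overCat _) (Yoneda.isFibGrpd_overCat _) h𝒴) Z
    (a := w₁) (Rep.repByAlgSp1_of_repByAlgSpWith hws₁)
  have := hcsu₂ hws₁
  let E₂ : BasedFunctor.comp (overMap c₂) Z ≅ BasedFunctor.comp (overMap l₂) w₁ :=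
    BasedBasic.isoWhiskerRight ec₂.symm Z ≪≫ BasedBasic.isoWhiskerLeft w₂ (fpIso Z w₁) ≪≫
      BasedBasic.isoWhiskerRight el₂ w₁
  have h1 : c₂ ≫ (c ≫ m) = l₂ ≫ c₁ := eq_of_iso ((overMapComp c₂ (c ≫ m)).symm ≪≫
    BasedBasic.isoWhiskerRight E₂ (fpFst y y₀) ≪≫ BasedBasic.isoWhiskerLeft (overMap l₂) ec₁ ≪≫
      overMapComp l₂ c₁)
  have h2 : c₂ ≫ (l ≫ h₀) = l₂ ≫ l₁ := eq_of_iso ((overMapComp c₂ (l ≫ h₀)).symm ≪≫
    BasedBasic.isoWhiskerRight E₂ (fpSnd y y₀) ≪≫ BasedBasic.isoWhiskerLeft (overMap l₂) el₁ ≪≫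
      overMapComp l₂ l₁)
  have := hce₂ hwe₁
  have hc₂ : Smooth c₂.left := inferInstance
  have h1' : c₂.left ≫ c.left ≫ m.left = l₂.left ≫ c₁.left := congrArg CommaMorphism.left h1
  have h2' : c₂.left ≫ l.left ≫ h₀.left = l₂.left ≫ l₁.left := congrArg CommaMorphism.left h2
  have h3 : LocallyOfFiniteType (l₂.left ≫ l₁.left) := h2' ▸ inferInstance
  have h4 : LocallyOfFiniteType l₂.left := locallyOfFiniteType_of_comp l₂.left l₁.left
  have h5 : LocallyOfFiniteType ((c₂.left ≫ c.left) ≫ m.left) := by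
    rw [Category.assoc, h1']
    infer_instance
  exact FppfDesc.Scheme.locallyOfFiniteType_of_comp (c₂.left ≫ c.left) m.left h5

end Groth.Agent.H14.DvrUC
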