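import Groth.Agent.H14.Chart.Basic
import Groth.Agent.H14.Chart.LocQ2

/-!
Isomorphisms of functors into a 2-fibre product from isomorphisms of their components.
-/

set_option autoImplicit false
set_option backward.isDefEq.respectTransparency false
set_option backward.isDefEq.respectTransparency.types false

universe u

open CategoryTheory CategoryTheory.Limits AlgebraicGeometry

namespace Groth.Agent.H14.DvrUC

open Groth.Agent.Lib.AlgStack
open Groth.Agent.H14.Chart
open FibCat (fp fpFst fpSnd fpLift fpIso overCat IsFibGrpd)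
open AlgSt (overMap)

variable {S : Scheme.{u}} {𝒲 𝒳 𝒴 𝒵 : AlgSt.Cat S} {F : 𝒳 ⥤ᵇ 𝒵} {G : 𝒴 ⥤ᵇ 𝒵}

/-- Two functors into a 2-fibre product with compatible isomorphic components are isomorphic. -/
noncomputable def fpExt {Φ Ψ : 𝒲 ⥤ᵇ fp F G}
    (e₁ : BasedFunctor.comp Φ (fpFst F G) ≅ BasedFunctor.comp Ψ (fpFst F G))
    (e₂ : BasedFunctor.comp Φ (fpSnd F G) ≅ BasedFunctor.comp Ψ (fpSnd F G))
    (h : ∀ w, F.map (BasedBasic.appIso e₁ w).hom ≫ (Ψ.obj w).obj.iso.hom =
      (Φ.obj w).obj.iso.hom ≫ G.map (BasedBasic.appIso e₂ w).hom) : Φ ≅ Ψ :=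
  BasedNatIso.mkNatIso
    (NatIso.ofComponents
      (fun w =>
        { hom := FibProd.homMk (BasedBasic.appIso e₁ w).hom (BasedBasic.appIso e₂ w).hom (h w)
          inv := FibProd.homMk (BasedBasic.appIso e₁ w).inv (BasedBasic.appIso e₂ w).inv (by
            rw [← cancel_mono (G.map (BasedBasic.appIso e₂ w).hom), Category.assoc, ← h w]
            rw [← Category.assoc, ← F.toFunctor.map_comp, Iso.inv_hom_id, F.toFunctor.map_id,
              Category.id_comp, Category.assoc, ← G.toFunctor.map_comp, Iso.inv_hom_id, G.toFunctor.map_id]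
            exact (Category.comp_id _).symm)
          hom_inv_id := FibProd.hom_ext (BasedBasic.appIso e₁ w).hom_inv_id (BasedBasic.appIso e₂ w).hom_inv_id
          inv_hom_id := FibProd.hom_ext (BasedBasic.appIso e₁ w).inv_hom_id (BasedBasic.appIso e₂ w).inv_hom_id })
      (fun g => FibProd.hom_ext (e₁.hom.toNatTrans.naturality g) (e₂.hom.toNatTrans.naturality g)))
    (fun w => by
      have := BasedBasic.appIso_isHomLift e₁ w
      exact IsHomLift.of_fac' _ _ _ (Φ.w_obj w) (Ψ.w_obj w)
        (IsHomLift.fac' 𝒳.p (𝟙 (𝒲.p.obj w)) (BasedBasic.appIso e₁ w).hom))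

/-- Two morphisms of a slice with the same image in the base are equal. -/
theorem slice_hom_eq {V : Over S} {a b : (overCat V).obj} (φ ψ : a ⟶ b)
    (h : (overCat V).p.map φ = (overCat V).p.map ψ) : φ = ψ :=
  Over.OverMorphism.ext h

/-- Composites with restrictions. -/
theorem comp_overMap {U V W : Over S} (k : U ⟶ V) (l : V ⟶ W) (F : overCat W ⥤ᵇ 𝒳) :
    BasedFunctor.comp (overMap k) (BasedFunctor.comp (overMap l) F) =
      BasedFunctor.comp (overMap (k ≫ l)) F := by
  rw [← LocQ.overMap_comp]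
  rfl

/-- Isomorphic restrictions along a scheme. -/
noncomputable def restr {T' T : Over S} (s : T' ⟶ T) {F F' : overCat T ⥤ᵇ 𝒳} (e : F ≅ F') :
    BasedFunctor.comp (overMap s) F ≅ BasedFunctor.comp (overMap s) F' :=
  BasedBasic.isoWhiskerLeft (overMap s) e

end Groth.Agent.H14.DvrUC
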