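import Groth.Agent.Lib.Lim.AvoidFibre

/-!
Images of saturated closed sets of an affine scheme with a flat equivalence relation are closed if their
specializations lift over finitely generated parameters.
-/

set_option autoImplicit false
set_option backward.isDefEq.respectTransparency false
set_option backward.isDefEq.respectTransparency.types false

universe u

open CategoryTheory CategoryTheory.Limits AlgebraicGeometry
open scoped TensorProduct

namespace Groth.Agent.H14.DvrUC

variable {A C : Type u} [CommRing A] [CommRing C] [Algebra A C]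

/-- The structure map of the spectrum of an algebra. -/
noncomputable abbrev str (A B : Type u) [CommRing A] [CommRing B] [Algebra A B] :
    Spec (CommRingCat.of B) ⟶ Spec (CommRingCat.of A) :=
  Spec.map (CommRingCat.ofHom (algebraMap A B))

variable {R : Scheme.{u}} (c l : R ⟶ Spec (CommRingCat.of C)) (hcl : c ≫ str A C = l ≫ str A C)

/-- The first projection of the relation after base change. -/
noncomputable def cBC {T : Scheme.{u}} (t : T ⟶ Spec (CommRingCat.of A)) :
    pullback (c ≫ str A C) t ⟶ pullback (str A C) t :=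
  pullback.map _ _ _ _ c (𝟙 T) (𝟙 _) (by simp) (by simp)

/-- The second projection of the relation after base change. -/
noncomputable def lBC {T : Scheme.{u}} (t : T ⟶ Spec (CommRingCat.of A)) :
    pullback (c ≫ str A C) t ⟶ pullback (str A C) t :=
  pullback.lift (pullback.fst _ _ ≫ l) (pullback.snd _ _)
    (by rw [Category.assoc, ← hcl, pullback.condition])

/-- A set stable under the relation. -/
def Saturated {T : Scheme.{u}} (t : T ⟶ Spec (CommRingCat.of A))
    (Z : Set ↥(pullback (str A C) t)) : Prop :=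
  ∀ r, cBC c t r ∈ Z → lBC c l hcl t r ∈ Z

variable {T' T : Scheme.{u}} {t : T ⟶ Spec (CommRingCat.of A)} {t' : T' ⟶ Spec (CommRingCat.of A)}
  (φ : T' ⟶ T) (hφ : φ ≫ t = t')

/-- The map of base changes of the space. -/
noncomputable def upBC : pullback (str A C) t' ⟶ pullback (str A C) t :=
  pullback.map _ _ _ _ (𝟙 _) φ (𝟙 _) (by simp) (by simp [hφ])

/-- The map of base changes of the relation. -/
noncomputable def upRel : pullback (c ≫ str A C) t' ⟶ pullback (c ≫ str A C) t :=
  pullback.map _ _ _ _ (𝟙 _) φ (𝟙 _) (by simp) (by simp [hφ])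

theorem isPullback_cBC (t : T ⟶ Spec (CommRingCat.of A)) :
    IsPullback (cBC c t) (pullback.fst _ _) (pullback.fst (str A C) t) c := by
  refine IsPullback.of_right (h₁₂ := pullback.snd (str A C) t) (h₂₂ := str A C) ?_
    (pullback.lift_fst _ _ _) (IsPullback.of_hasPullback (str A C) t).flip
  rw [cBC, pullback.lift_snd, Category.comp_id]
  exact (IsPullback.of_hasPullback (c ≫ str A C) t).flip

theorem isOpenMap_cBC [Flat c] [LocallyOfFinitePresentation c] (t : T ⟶ Spec (CommRingCat.of A)) :
    IsOpenMap (cBC c t) := by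
  have : Flat (cBC c t) := MorphismProperty.of_isPullback (isPullback_cBC c t).flip ‹Flat c›
  have : LocallyOfFinitePresentation (cBC c t) :=
    MorphismProperty.of_isPullback (isPullback_cBC c t).flip ‹LocallyOfFinitePresentation c›
  exact (cBC c t).isOpenMap

theorem saturated_closure [Flat c] [LocallyOfFinitePresentation c] {Z : Set ↥(pullback (str A C) t)}
    (hZ : Saturated c l hcl t Z) : Saturated c l hcl t (closure Z) := fun r hr => by
  have h1 : r ∈ cBC c t ⁻¹' closure Z := hr
  rw [(isOpenMap_cBC c t).preimage_closure_eq_closure_preimage (cBC c t).continuous] at h1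
  exact map_mem_closure (lBC c l hcl t).continuous h1 fun x hx => hZ x hx

theorem saturated_image {Z : Set ↥(pullback (str A C) t')} (hZ : Saturated c l hcl t' Z) :
    Saturated c l hcl t (upBC φ hφ '' Z) := by
  rintro r ⟨z, hz, hzr⟩
  have sq : IsPullback (upRel c φ hφ) (cBC c t') (cBC c t) (upBC φ hφ) := by
    refine IsPullback.of_right (h₁₂ := pullback.fst (c ≫ str A C) t) (v₁₃ := c)
      (h₂₂ := pullback.fst (str A C) t) ?_ ?_ (isPullback_cBC c t).flip
    · simp only [upRel, upBC, pullback.lift_fst, Category.comp_id]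
      exact (isPullback_cBC c t').flip
    · apply pullback.hom_ext <;> simp [upRel, upBC, cBC]
  obtain ⟨r', hr₁, hr₂⟩ := Scheme.exists_preimage_of_isPullback sq r z hzr.symm
  refine ⟨lBC c l hcl t' r', hZ r' (hr₂.symm ▸ hz), ?_⟩
  rw [← hr₁, ← Scheme.Hom.comp_apply, ← Scheme.Hom.comp_apply]
  have e : lBC c l hcl t' ≫ upBC φ hφ = upRel c φ hφ ≫ lBC c l hcl t := by
    apply pullback.hom_ext <;> simp [upRel, upBC, lBC]
  rw [e]

/-- The image of a saturated closed set is closed once specializations lift over finitely generated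
parameters. -/
theorem isClosed_image [Flat c] [LocallyOfFinitePresentation c]
    (H : ∀ (P : Type u) [CommRing P] [Algebra A P] [Algebra.FiniteType A P]
      (D : Set ↥(pullback (str A C) (str A P))), IsClosed D → Saturated c l hcl (str A P) D →
      ∀ u ∈ D, ∀ q, pullback.snd (str A C) (str A P) u ⤳ q →
        q ∈ pullback.snd (str A C) (str A P) '' D)
    (B : Type u) [CommRing B] [Algebra A B] {Z : Set ↥(pullback (str A C) (str A B))}
    (hZ : IsClosed Z) (hs : Saturated c l hcl (str A B) Z) :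
    IsClosed (pullback.snd (str A C) (str A B) '' Z) := by
  rw [← isOpen_compl_iff]
  refine isOpen_iff_mem_nhds.2 fun p hp => ?_
  let eB := pullbackSpecIso A C B
  obtain ⟨J, hJ⟩ := (PrimeSpectrum.isClosed_iff_zeroLocus_ideal _).1 (hZ.preimage eB.inv.continuous)
  have hmem : ∀ Q : PrimeSpectrum (C ⊗[A] B), eB.inv Q ∈ Z ↔ J ≤ Q.asIdeal := fun Q =>
    (Set.ext_iff.1 hJ Q).trans (PrimeSpectrum.mem_zeroLocus _ _)
  have hsnd : ∀ Q : PrimeSpectrum (C ⊗[A] B), pullback.snd (str A C) (str A B) (eB.inv Q) =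
      PrimeSpectrum.comap (Algebra.TensorProduct.includeRight : B →ₐ[A] C ⊗[A] B).toRingHom Q :=
    fun Q => by rw [← Scheme.Hom.comp_apply, pullbackSpecIso_inv_snd]; rfl
  obtain ⟨s, hcore⟩ := Lib.Lim.AvoidFibre.core J p.asIdeal fun Q hQ hJQ e =>
    hp ⟨eB.inv ⟨Q, hQ⟩, (hmem _).2 hJQ, (hsnd _).trans (PrimeSpectrum.ext e)⟩
  obtain ⟨e⟩ : Nonempty (ULift.{u} (Fin s.card) ≃ s) := ⟨Equiv.ulift.trans (Finset.equivFin s).symm⟩
  let P := MvPolynomial (ULift.{u} (Fin s.card)) A
  let φ : P →ₐ[A] B := MvPolynomial.aeval fun i => (e i : B)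
  obtain ⟨j, hj, hjQ⟩ := hcore P φ fun b hb =>
    ⟨MvPolynomial.X (e.symm ⟨b, hb⟩), by
      show MvPolynomial.aeval (fun i => (e i : B)) _ = b
      rw [MvPolynomial.aeval_X, Equiv.apply_symm_apply]⟩
  let κ : Spec (CommRingCat.of B) ⟶ Spec (CommRingCat.of P) := Spec.map (CommRingCat.ofHom φ.toRingHom)
  have hκ : κ ≫ str A P = str A B := by
    rw [← Spec.map_comp, ← CommRingCat.ofHom_comp]
    exact congrArg (fun f => Spec.map (CommRingCat.ofHom f)) φ.comp_algebraMap
  let eP := pullbackSpecIso A C P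
  let φ₂ : C ⊗[A] P →ₐ[A] C ⊗[A] B := Algebra.TensorProduct.map (AlgHom.id A C) φ
  have hup : Spec.map (CommRingCat.ofHom φ₂.toRingHom) ≫ eP.inv = eB.inv ≫ upBC κ hκ := by
    apply pullback.hom_ext
    · rw [Category.assoc, Category.assoc, pullbackSpecIso_inv_fst, upBC, pullback.lift_fst,
        Category.comp_id, pullbackSpecIso_inv_fst, ← Spec.map_comp, ← CommRingCat.ofHom_comp]
      congr 2
      ext x
      simp [φ₂]
    · rw [Category.assoc, Category.assoc, pullbackSpecIso_inv_snd, upBC, pullback.lift_snd,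
        pullbackSpecIso_inv_snd_assoc, ← Spec.map_comp, ← Spec.map_comp, ← CommRingCat.ofHom_comp,
        ← CommRingCat.ofHom_comp]
      congr 2
  let D := closure (upBC κ hκ '' Z)
  have hDj : ∀ u ∈ D, j ∈ (eP.hom u).asIdeal := by
    have : upBC κ hκ '' Z ⊆ eP.hom ⁻¹' PrimeSpectrum.zeroLocus {j} := by
      rintro _ ⟨z, hz, rfl⟩
      obtain ⟨Q, rfl⟩ : ∃ Q, eB.inv Q = z := eB.inv.surjective z
      have e1 : eP.hom (upBC κ hκ (eB.inv Q)) = PrimeSpectrum.comap φ₂.toRingHom Q := by
        rw [← Scheme.Hom.comp_apply eB.inv, ← hup, Scheme.Hom.comp_apply, ← Scheme.Hom.comp_apply eP.inv,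
          Iso.inv_hom_id]
        rfl
      rw [Set.mem_preimage, e1, PrimeSpectrum.mem_zeroLocus, Set.singleton_subset_iff]
      exact (hmem Q).1 hz hj
    intro u hu
    have := closure_minimal this ((PrimeSpectrum.isClosed_zeroLocus _).preimage eP.hom.continuous) hu
    exact Set.singleton_subset_iff.1 ((PrimeSpectrum.mem_zeroLocus _ _).1 this)
  have hDs : Saturated c l hcl (str A P) D :=
    saturated_closure c l hcl (saturated_image c l hcl κ hκ hs)
  have hst : StableUnderSpecialization (pullback.snd (str A C) (str A P) '' D) := by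
    rintro _ q hq ⟨u, hu, rfl⟩
    exact H P D isClosed_closure hDs u hu q hq
  have hcl' : IsClosed (pullback.snd (str A C) (str A P) '' D) := by
    have e1 : pullback.snd (str A C) (str A P) '' D =
        PrimeSpectrum.comap (Algebra.TensorProduct.includeRight : P →ₐ[A] C ⊗[A] P).toRingHom ''
          (eP.inv ⁻¹' D) := by
      have e2 : ∀ Q, PrimeSpectrum.comap
          (Algebra.TensorProduct.includeRight : P →ₐ[A] C ⊗[A] P).toRingHom Q =
            pullback.snd (str A C) (str A P) (eP.inv Q) := fun Q => by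
        rw [← Scheme.Hom.comp_apply, pullbackSpecIso_inv_snd]; rfl
      ext q
      constructor
      · rintro ⟨u, hu, rfl⟩
        obtain ⟨Q, rfl⟩ : ∃ Q, eP.inv Q = u := eP.inv.surjective u
        exact ⟨Q, hu, e2 Q⟩
      · rintro ⟨Q, hQ, rfl⟩
        exact ⟨_, hQ, (e2 Q).symm⟩
    rw [e1] at hst ⊢
    exact PrimeSpectrum.isClosed_image_of_stableUnderSpecialization _ _
      (isClosed_closure.preimage eP.inv.continuous) hst
  refine Filter.mem_of_superset ((hcl'.isOpen_compl.preimage κ.continuous).mem_nhds ?_) ?_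
  · rintro ⟨u, hu, hup'⟩
    obtain ⟨Q, rfl⟩ : ∃ Q, eP.inv Q = u := eP.inv.surjective u
    have h1 : j ∈ Q.asIdeal := by
      have := hDj _ hu
      rwa [← Scheme.Hom.comp_apply, Iso.inv_hom_id] at this
    refine hjQ Q.asIdeal Q.2 ?_ h1
    rw [← Scheme.Hom.comp_apply, pullbackSpecIso_inv_snd] at hup'
    exact congrArg PrimeSpectrum.asIdeal hup'
  · rintro q hq ⟨z, hz, rfl⟩
    refine hq ⟨upBC κ hκ z, subset_closure ⟨z, hz, rfl⟩, ?_⟩
    rw [← Scheme.Hom.comp_apply, ← Scheme.Hom.comp_apply, upBC, pullback.lift_snd]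

end Groth.Agent.H14.DvrUC
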