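import Groth.Agent.H14.DvrUC.Ext
import Groth.Agent.H14.DvrUC.Groupoid
import Groth.Agent.Lib.DvrCrit.Basic
import Groth.Agent.Lib.AlgStack.ChartLift
import Mathlib.RingTheory.DiscreteValuationRing.Basic

/-!
Specializations in images of saturated closed sets lift when discrete valuation rings lift.
-/

set_option autoImplicit false
set_option backward.isDefEq.respectTransparency false
set_option backward.isDefEq.respectTransparency.types false

universe u

open CategoryTheory CategoryTheory.Limits AlgebraicGeometry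

namespace Groth.Agent.H14.DvrUC

open Groth.Agent.Lib.AlgStack
open Groth.Agent.Lib.AlgStack.ChartLift (overMapComp eq_of_iso)
open Groth.Agent.H14.Chart
open FibCat (IsEquivOver fp fpFst fpSnd fpLift fpIso overCat IsFibGrpd)
open AlgSt (overMap RepByAlgSp1 RepByAlgSpWith)
open AlgSp (LocP)

variable {S : Scheme.{u}} {𝒳 𝒴 : AlgSt.Cat S}

/-- Discrete valuation rings lift after an extension. -/
def DvrLifts (f : 𝒳 ⥤ᵇ 𝒴) : Prop :=
  ∀ (R : Type u) [CommRing R] [IsDomain R] [IsDiscreteValuationRing R]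
    (sR : Spec (CommRingCat.of R) ⟶ S)
    (a : FibCat.overCat (Over.mk (Spec.map (CommRingCat.ofHom (algebraMap R (FractionRing R))) ≫ sR)) ⥤ᵇ 𝒳)
    (b : FibCat.overCat (Over.mk sR) ⥤ᵇ 𝒴)
    (α : BasedFunctor.comp a f ≅
      BasedFunctor.comp (AlgSt.overMap (Over.homMk (Spec.map (CommRingCat.ofHom (algebraMap R (FractionRing R)))) rfl :
        Over.mk (Spec.map (CommRingCat.ofHom (algebraMap R (FractionRing R))) ≫ sR) ⟶ Over.mk sR)) b),
    ∃ (R' : Type u) (_ : CommRing R') (_ : IsDomain R') (_ : IsDiscreteValuationRing R') (φ : R →+* R')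
      (_ : Function.Injective φ) (_ : IsLocalHom φ)
      (gψ : (Over.mk (Spec.map (CommRingCat.ofHom (algebraMap R' (FractionRing R'))) ≫
              Spec.map (CommRingCat.ofHom φ) ≫ sR) : Over S) ⟶
            Over.mk (Spec.map (CommRingCat.ofHom (algebraMap R (FractionRing R))) ≫ sR))
      (c : FibCat.overCat (Over.mk (Spec.map (CommRingCat.ofHom φ) ≫ sR)) ⥤ᵇ FibCat.fp f b),
      gψ ≫ (Over.homMk (Spec.map (CommRingCat.ofHom (algebraMap R (FractionRing R)))) rfl :
          Over.mk (Spec.map (CommRingCat.ofHom (algebraMap R (FractionRing R))) ≫ sR) ⟶ Over.mk sR) =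
        (Over.homMk (Spec.map (CommRingCat.ofHom (algebraMap R' (FractionRing R')))) rfl :
            Over.mk (Spec.map (CommRingCat.ofHom (algebraMap R' (FractionRing R'))) ≫
              Spec.map (CommRingCat.ofHom φ) ≫ sR) ⟶ Over.mk (Spec.map (CommRingCat.ofHom φ) ≫ sR)) ≫
          (Over.homMk (Spec.map (CommRingCat.ofHom φ)) rfl :
            Over.mk (Spec.map (CommRingCat.ofHom φ) ≫ sR) ⟶ Over.mk sR) ∧
      Nonempty (BasedFunctor.comp c (FibCat.fpSnd f b) ≅
        AlgSt.overMap (Over.homMk (Spec.map (CommRingCat.ofHom φ)) rfl :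
          Over.mk (Spec.map (CommRingCat.ofHom φ) ≫ sR) ⟶ Over.mk sR)) ∧
      Nonempty (BasedFunctor.comp
          (AlgSt.overMap (Over.homMk (Spec.map (CommRingCat.ofHom (algebraMap R' (FractionRing R')))) rfl :
            Over.mk (Spec.map (CommRingCat.ofHom (algebraMap R' (FractionRing R'))) ≫
              Spec.map (CommRingCat.ofHom φ) ≫ sR) ⟶ Over.mk (Spec.map (CommRingCat.ofHom φ) ≫ sR))) c ≅
        BasedFunctor.comp (AlgSt.overMap gψ)
          (FibCat.fpLift a
            (AlgSt.overMap (Over.homMk (Spec.map (CommRingCat.ofHom (algebraMap R (FractionRing R)))) rfl :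
              Over.mk (Spec.map (CommRingCat.ofHom (algebraMap R (FractionRing R))) ≫ sR) ⟶ Over.mk sR)) α))

/-- A chart of the base change to an affine scheme together with its relation. -/
structure Chart (f : 𝒳 ⥤ᵇ 𝒴) {A : Type u} [CommRing A] {sA : Spec (CommRingCat.of A) ⟶ S}
    (y : overCat (Over.mk sA) ⥤ᵇ 𝒴) (C : Type u) [CommRing C] [Algebra A C] where
  u : overCat (Over.mk (str A C ≫ sA)) ⥤ᵇ fp y f
  u_fst : BasedFunctor.comp u (fpFst y f) ≅
    overMap (Over.homMk (str A C) rfl : Over.mk (str A C ≫ sA) ⟶ Over.mk sA)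
  smooth : RepByAlgSpWith (LocP @Smooth) u
  surj : RepByAlgSpWith AlgSp.IsSurjectiveMor u
  R : Over S
  c : R ⟶ Over.mk (str A C ≫ sA)
  l : R ⟶ Over.mk (str A C ≫ sA)
  flat : Flat c.left
  lfp : LocallyOfFinitePresentation c.left
  iso : BasedFunctor.comp (overMap c) u ≅ BasedFunctor.comp (overMap l) u
  cover : ∀ {W : Over S} (q₁ q₂ : W ⟶ Over.mk (str A C ≫ sA)),
    (BasedFunctor.comp (overMap q₁) u ≅ BasedFunctor.comp (overMap q₂) u) → ∀ w : ↥W.left,
      ∃ (W₀ : Over S) (s : W₀ ⟶ W) (r : W₀ ⟶ R) (w₀ : ↥W₀.left),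
        s.left w₀ = w ∧ r ≫ c = s ≫ q₁ ∧ r ≫ l = s ≫ q₂

section

variable {f : 𝒳 ⥤ᵇ 𝒴} {A : Type u} [CommRing A] {sA : Spec (CommRingCat.of A) ⟶ S}
  {y : overCat (Over.mk sA) ⥤ᵇ 𝒴} {C : Type u} [CommRing C] [Algebra A C]

/-- A relation exists for every smooth surjective affine chart. -/
theorem exists_chart_rel (h𝒳' : IsFibGrpd (fp y f).p)
    (u : overCat (Over.mk (str A C ≫ sA)) ⥤ᵇ fp y f)
    (eu : BasedFunctor.comp u (fpFst y f) ≅
      overMap (Over.homMk (str A C) rfl : Over.mk (str A C ≫ sA) ⟶ Over.mk sA))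
    (hu : RepByAlgSpWith (LocP @Smooth) u) (hu' : RepByAlgSpWith AlgSp.IsSurjectiveMor u) :
    Nonempty (Chart f y C) := by
  obtain ⟨R, c, l, w, -, hws, ⟨ec⟩, ⟨el⟩, -, hsm, -⟩ :=
    ChartLift.exists_chart.{u} h𝒳' u (a := u) (Rep.repByAlgSp1_of_repByAlgSpWith hu)
  have := hsm hu
  refine ⟨⟨u, eu, hu, hu', R, c, l, inferInstance, inferInstance,
    BasedBasic.isoWhiskerRight ec.symm u ≪≫ BasedBasic.isoWhiskerLeft w (fpIso u u) ≪≫
      BasedBasic.isoWhiskerRight el u, fun {W} q₁ q₂ e t => ?_⟩⟩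
  let Z := fpLift (F := u) (G := u) (overMap q₁) (overMap q₂) e
  obtain ⟨W₀, c₀, l₀, w₀, -, -, ⟨e₁⟩, ⟨e₂⟩, -, -, hs, -⟩ := ChartLift.exists_chart.{u}
    (FibProd.isFibGrpd_fp (Yoneda.isFibGrpd_overCat _) (Yoneda.isFibGrpd_overCat _) h𝒳') Z
    (Rep.repByAlgSp1_of_repByAlgSpWith hws)
  obtain ⟨v₀, hv₀⟩ := (hs hws).surj t
  have E : BasedFunctor.comp (overMap c₀) Z ≅ BasedFunctor.comp (overMap l₀) w :=
    BasedBasic.isoWhiskerRight e₁.symm Z ≪≫ BasedBasic.isoWhiskerLeft w₀ (fpIso Z w) ≪≫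
      BasedBasic.isoWhiskerRight e₂ w
  exact ⟨W₀, c₀, l₀, v₀, hv₀,
    (eq_of_iso ((overMapComp c₀ q₁).symm ≪≫ BasedBasic.isoWhiskerRight E (fpFst u u) ≪≫
      BasedBasic.isoWhiskerLeft (overMap l₀) ec ≪≫ overMapComp l₀ c)).symm,
    (eq_of_iso ((overMapComp c₀ q₂).symm ≪≫ BasedBasic.isoWhiskerRight E (fpSnd u u) ≪≫
      BasedBasic.isoWhiskerLeft (overMap l₀) el ≪≫ overMapComp l₀ l)).symm⟩

namespace Chart

variable (K : Chart f y C)

/-- Maps to the chart with isomorphic images have the same image in the base. -/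
theorem eq_base {W : Over S} {q₁ q₂ : W ⟶ Over.mk (str A C ≫ sA)}
    (e : BasedFunctor.comp (overMap q₁) K.u ≅ BasedFunctor.comp (overMap q₂) K.u) :
    q₁.left ≫ str A C = q₂.left ≫ str A C :=
  congrArg CommaMorphism.left (eq_of_iso ((overMapComp q₁ _).symm ≪≫
    BasedBasic.isoWhiskerLeft (overMap q₁) K.u_fst.symm ≪≫ BasedBasic.isoWhiskerRight e (fpFst y f) ≪≫
      BasedBasic.isoWhiskerLeft (overMap q₂) K.u_fst ≪≫ overMapComp q₂ _))

theorem hcl : K.c.left ≫ str A C = K.l.left ≫ str A C := K.eq_base K.iso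

variable (hval : DvrLifts f) (h𝒳' : IsFibGrpd (fp y f).p) [IsNoetherianRing A] [LocallyOfFiniteType (str A C)]

include hval h𝒳' in
/-- Specializations lift to saturated closed sets. -/
theorem specializes_mem (P : Type u) [CommRing P] [Algebra A P] [Algebra.FiniteType A P]
    (D : Set ↥(pullback (str A C) (str A P))) (hD : IsClosed D)
    (hs : Saturated K.c.left K.l.left K.hcl (str A P) D) (u : ↥(pullback (str A C) (str A P)))
    (hu : u ∈ D) (q : ↥(Spec (CommRingCat.of P))) (hq : pullback.snd (str A C) (str A P) u ⤳ q) :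
    q ∈ pullback.snd (str A C) (str A P) '' D := by
  by_cases hne : pullback.snd (str A C) (str A P) u = q
  · exact ⟨u, hu, hne⟩
  have : IsNoetherianRing P := Algebra.FiniteType.isNoetherianRing A P
  obtain ⟨W, hW, φ, hφq, hφg⟩ :=
    Lib.DvrCrit.exists_dvr_center (pullback.snd (str A C) (str A P)) u q hq hne
  have := hW
  -- the generic point
  let sR : Spec (CommRingCat.of W) ⟶ S := φ ≫ str A P ≫ sA
  let ι := FractionRing.algEquiv W ((pullback (str A C) (str A P)).residueField u)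
  let top : Spec (CommRingCat.of (FractionRing W)) ⟶ pullback (str A C) (str A P) :=
    Spec.map (CommRingCat.ofHom ι.symm.toRingEquiv.toRingHom) ≫
      (pullback (str A C) (str A P)).fromSpecResidueField u
  have htop : top ≫ pullback.snd _ _ =
      Spec.map (CommRingCat.ofHom (algebraMap W (FractionRing W))) ≫ φ := by
    rw [Category.assoc, ← hφg, ← Category.assoc, ← Spec.map_comp, ← CommRingCat.ofHom_comp]
    congr 3
    ext x
    exact ι.symm.commutes x
  let PK : Over S := Over.mk (Spec.map (CommRingCat.ofHom (algebraMap W (FractionRing W))) ≫ sR)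
  let PR : Over S := Over.mk sR
  let jK : PK ⟶ PR := Over.homMk (Spec.map (CommRingCat.ofHom (algebraMap W (FractionRing W)))) rfl
  let UU : Over S := Over.mk (str A C ≫ sA)
  let VV : Over S := Over.mk sA
  let topU : PK ⟶ UU := Over.homMk (top ≫ pullback.fst _ _) (by
    change _ ≫ str A C ≫ sA = _ ≫ φ ≫ str A P ≫ sA
    rw [Category.assoc, pullback.condition_assoc, reassoc_of% htop])
  let jV : PR ⟶ VV := Over.homMk (φ ≫ str A P) (Category.assoc _ _ _)
  have htV : topU ≫ (Over.homMk (str A C) rfl : UU ⟶ VV) = jK ≫ jV := Over.OverMorphism.ext (by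
    change (top ≫ pullback.fst _ _) ≫ str A C = _ ≫ φ ≫ str A P
    rw [Category.assoc, pullback.condition, reassoc_of% htop]
    rfl)
  -- the square
  let G : overCat PK ⥤ᵇ fp y f := BasedFunctor.comp (overMap topU) K.u
  let a : overCat PK ⥤ᵇ 𝒳 := BasedFunctor.comp G (fpSnd y f)
  let b : overCat PR ⥤ᵇ 𝒴 := BasedFunctor.comp (overMap jV) y
  let ε : BasedFunctor.comp G (fpFst y f) ≅ BasedFunctor.comp (overMap jK) (overMap jV) :=
    BasedBasic.isoWhiskerLeft (overMap topU) K.u_fst ≪≫ overMapComp topU _ ≪≫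
      eqToIso (by rw [htV]) ≪≫ (overMapComp jK jV).symm
  let α : BasedFunctor.comp a f ≅ BasedFunctor.comp (overMap jK) b :=
    (BasedBasic.isoWhiskerLeft G (fpIso y f)).symm ≪≫ BasedBasic.isoWhiskerRight ε y
  obtain ⟨R', _, _, _, φ', -, _, gψ, c, hψ, ⟨ι₂⟩, ⟨ι₃⟩⟩ := hval W sR a b α
  -- the lift
  let PR' : Over S := Over.mk (Spec.map (CommRingCat.ofHom φ') ≫ sR)
  let jR : PR' ⟶ PR := Over.homMk (Spec.map (CommRingCat.ofHom φ')) rfl
  let Ξ : fp f b ⥤ᵇ fp y f :=
    fpLift (BasedFunctor.comp (fpSnd f b) (overMap jV)) (fpFst f b) (fpIso f b).symm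
  let ξ : BasedFunctor.comp (fpLift a (overMap jK) α) Ξ ≅ G := by
    refine fpExt ε.symm (Iso.refl _) fun w => ?_
    have e : (BasedBasic.appIso α w).inv = y.map (BasedBasic.appIso ε.symm w).hom ≫ (G.obj w).obj.iso.hom := rfl
    change y.map (BasedBasic.appIso ε.symm w).hom ≫ (G.obj w).obj.iso.hom =
      (BasedBasic.appIso α w).inv ≫ f.map (𝟙 _)
    rw [e, f.toFunctor.map_id]
    exact (Category.comp_id _).symm
  let c' : overCat PR' ⥤ᵇ fp y f := BasedFunctor.comp c Ξ
  obtain ⟨Wc, cW, lW, wc, -, hwcs, ⟨ecW⟩, ⟨elW⟩, -, hsm, hsu, -⟩ := ChartLift.exists_chart.{u}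
    h𝒳' c'
    (a := K.u) (Rep.repByAlgSp1_of_repByAlgSpWith K.smooth)
  have := hsm K.smooth
  have := hsu K.surj
  let eW : BasedFunctor.comp (overMap cW) c' ≅ BasedFunctor.comp (overMap lW) K.u :=
    BasedBasic.isoWhiskerRight ecW.symm c' ≪≫ BasedBasic.isoWhiskerLeft wc (fpIso c' K.u) ≪≫
      BasedBasic.isoWhiskerRight elW K.u
  let ec' : BasedFunctor.comp c' (fpFst y f) ≅ overMap (jR ≫ jV) :=
    BasedBasic.isoWhiskerRight ι₂ (overMap jV) ≪≫ overMapComp jR jV
  have hlW : lW.left ≫ str A C = (cW.left ≫ Spec.map (CommRingCat.ofHom φ') ≫ φ) ≫ str A P := by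
    have := eq_of_iso ((overMapComp lW _).symm ≪≫
      BasedBasic.isoWhiskerLeft (overMap lW) K.u_fst.symm ≪≫
      BasedBasic.isoWhiskerRight eW.symm (fpFst y f) ≪≫
      BasedBasic.isoWhiskerLeft (overMap cW) ec' ≪≫ overMapComp cW (jR ≫ jV))
    simpa [jR, jV] using congrArg CommaMorphism.left this
  let lP : Wc.left ⟶ pullback (str A C) (str A P) :=
    pullback.lift lW.left (cW.left ≫ Spec.map (CommRingCat.ofHom φ') ≫ φ) hlW
  obtain ⟨w₁, hw₁⟩ := cW.left.surjective (IsLocalRing.closedPoint R')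
  let jK' : (Over.mk (Spec.map (CommRingCat.ofHom (algebraMap R' (FractionRing R'))) ≫
      Spec.map (CommRingCat.ofHom φ') ≫ sR) : Over S) ⟶ PR' :=
    Over.homMk (Spec.map (CommRingCat.ofHom (algebraMap R' (FractionRing R')))) rfl
  let η : ↥(Spec (CommRingCat.of (FractionRing R'))) := IsLocalRing.closedPoint (FractionRing R')
  obtain ⟨w₀, hw₀, hw₀c⟩ := Flat.generalizingMap cW.left (a := w₁) (b := jK'.left η) (by
    rw [hw₁]
    exact IsLocalRing.specializes_closedPoint _)
  -- compare with the given point at the generic point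
  let WK : Over S := Over.mk (pullback.fst cW.left jK'.left ≫ Wc.hom)
  let i₁ : WK ⟶ Wc := Over.homMk (pullback.fst cW.left jK'.left)
  let i₂ : WK ⟶ _ := Over.homMk (U := WK) (V := Over.mk (Spec.map (CommRingCat.ofHom
      (algebraMap R' (FractionRing R'))) ≫ Spec.map (CommRingCat.ofHom φ') ≫ sR))
    (pullback.snd cW.left jK'.left) (by
      change _ ≫ _ = pullback.fst cW.left jK'.left ≫ Wc.hom
      rw [← Over.w cW, ← Over.w jK', pullback.condition_assoc])
  obtain ⟨wk, hwk₁, -⟩ := Scheme.Pullback.exists_preimage_pullback w₀ η hw₀c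
  have hi : i₁ ≫ cW = i₂ ≫ jK' := Over.OverMorphism.ext pullback.condition
  let eK : BasedFunctor.comp (overMap (i₂ ≫ gψ ≫ topU)) K.u ≅ BasedFunctor.comp (overMap (i₁ ≫ lW)) K.u :=
    eqToIso (by rw [← comp_overMap, ← comp_overMap]) ≪≫
      BasedBasic.isoWhiskerLeft (overMap i₂) (BasedBasic.isoWhiskerLeft (overMap gψ) ξ.symm ≪≫
        (BasedBasic.isoWhiskerRight ι₃ Ξ).symm) ≪≫
      eqToIso (by
        change BasedFunctor.comp (overMap i₂) (BasedFunctor.comp (overMap jK') c') =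
          BasedFunctor.comp (overMap i₁) (BasedFunctor.comp (overMap cW) c')
        rw [comp_overMap, comp_overMap, hi]) ≪≫
      BasedBasic.isoWhiskerLeft (overMap i₁) eW ≪≫ eqToIso (by rw [comp_overMap])
  obtain ⟨W₀, s, r, v, hv, hrc, hrl⟩ := K.cover _ _ eK wk
  have hrc' : r.left ≫ K.c.left = s.left ≫ i₂.left ≫ gψ.left ≫ topU.left := by
    simpa using congrArg CommaMorphism.left hrc
  have hrl' : r.left ≫ K.l.left = s.left ≫ i₁.left ≫ lW.left := by
    simpa using congrArg CommaMorphism.left hrl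
  have hψ' : gψ.left ≫ Spec.map (CommRingCat.ofHom (algebraMap W (FractionRing W))) =
      jK'.left ≫ Spec.map (CommRingCat.ofHom φ') := congrArg CommaMorphism.left hψ
  have hi' : i₁.left ≫ cW.left = i₂.left ≫ jK'.left := pullback.condition
  let rP : W₀.left ⟶ pullback (K.c.left ≫ str A C) (str A P) :=
    pullback.lift r.left (s.left ≫ i₁.left ≫ cW.left ≫ Spec.map (CommRingCat.ofHom φ') ≫ φ) (by
      rw [K.hcl, reassoc_of% hrl', hlW]
      simp only [Category.assoc])
  have hc : rP ≫ cBC K.c.left (str A P) = (s.left ≫ i₂.left ≫ gψ.left) ≫ top := by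
    apply pullback.hom_ext
    · simp only [rP, cBC, Category.assoc, pullback.lift_fst, pullback.lift_fst_assoc]
      exact hrc'
    · simp only [rP, cBC, Category.assoc, pullback.lift_snd, pullback.lift_snd_assoc, Category.comp_id]
      rw [htop, reassoc_of% hψ', reassoc_of% hi']
  have hl : rP ≫ lBC K.c.left K.l.left K.hcl (str A P) = (s.left ≫ i₁.left) ≫ lP := by
    apply pullback.hom_ext
    · simp only [rP, lBC, lP, Category.assoc, pullback.lift_fst, pullback.lift_fst_assoc]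
      exact hrl'
    · simp only [rP, lBC, lP, Category.assoc, pullback.lift_snd, pullback.lift_snd_assoc]
  have htopu : ∀ p, top p = u := fun p => by
    rw [Scheme.Hom.comp_apply]
    exact Scheme.fromSpecResidueField_apply _ _
  have h1 : lBC K.c.left K.l.left K.hcl (str A P) (rP v) ∈ D := hs _ (by
    rw [← Scheme.Hom.comp_apply, hc, Scheme.Hom.comp_apply]
    erw [htopu]
    exact hu)
  rw [← Scheme.Hom.comp_apply, hl, Scheme.Hom.comp_apply, Scheme.Hom.comp_apply, hv] at h1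
  have h2 : lP w₀ ∈ D := by
    convert h1 using 2
    exact hwk₁.symm
  refine ⟨lP w₁, (hw₀.map lP.continuous).mem_closed hD h2, ?_⟩
  rw [← Scheme.Hom.comp_apply, pullback.lift_snd, Scheme.Hom.comp_apply, hw₁, Scheme.Hom.comp_apply,
    ← hφq]
  congr 1
  exact IsLocalRing.comap_closedPoint φ'

end Chart

end

end Groth.Agent.H14.DvrUC
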