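import Groth.Agent.H14.DvrUC.Base
import Groth.Agent.H14.DvrUC.Lift

/-!
Images of closed sets under base changes are closed on affine charts when discrete valuation rings lift.
-/

set_option autoImplicit false
set_option backward.isDefEq.respectTransparency false
set_option backward.isDefEq.respectTransparency.types false

universe u

open CategoryTheory CategoryTheory.Limits AlgebraicGeometry

namespace Groth.Agent.H14.DvrUC

open Groth.Agent.Lib.AlgStack
open Groth.Agent.Lib.AlgStack.ChartLift (overMapComp eq_of_iso)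
open Groth.Agent.H14.Chart
open FibCat (IsEquivOver fp fpFst fpSnd fpLift fpIso overCat IsFibGrpd)
open AlgSt (overMap RepByAlgSp1 RepByAlgSpWith IsAlgStack)
open AlgSp (LocP)

variable {S : Scheme.{u}} {𝒳 𝒴 𝒵 : AlgSt.Cat S}

/-- Isomorphisms of components into a 2-fibre product over a slice are compatible. -/
theorem compat_slice {V : Over S} {𝒜 ℬ 𝒲 : AlgSt.Cat S} {F : 𝒜 ⥤ᵇ overCat V} {G : ℬ ⥤ᵇ overCat V}
    {Φ Ψ : 𝒲 ⥤ᵇ fp F G} (e₁ : BasedFunctor.comp Φ (fpFst F G) ≅ BasedFunctor.comp Ψ (fpFst F G))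
    (e₂ : BasedFunctor.comp Φ (fpSnd F G) ≅ BasedFunctor.comp Ψ (fpSnd F G)) (w : 𝒲.obj) :
    F.map (BasedBasic.appIso e₁ w).hom ≫ (Ψ.obj w).obj.iso.hom =
      (Φ.obj w).obj.iso.hom ≫ G.map (BasedBasic.appIso e₂ w).hom := by
  refine slice_hom_eq _ _ ?_
  have h1 := BasedBasic.appIso_isHomLift e₁ w
  have h2 := BasedBasic.appIso_isHomLift e₂ w
  have h1' := F.preserves_isHomLift (𝟙 (𝒲.p.obj w)) (BasedBasic.appIso e₁ w).hom
  have h2' := G.preserves_isHomLift (𝟙 (𝒲.p.obj w)) (BasedBasic.appIso e₂ w).hom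
  have hΨ : (overCat V).p.IsHomLift (𝟙 (𝒲.p.obj w)) (Ψ.obj w).obj.iso.hom :=
    (Ψ.w_obj w : 𝒜.p.obj (Ψ.obj w).obj.fst = _) ▸ (Ψ.obj w).property
  have hΦ : (overCat V).p.IsHomLift (𝟙 (𝒲.p.obj w)) (Φ.obj w).obj.iso.hom :=
    (Φ.w_obj w : 𝒜.p.obj (Φ.obj w).obj.fst = _) ▸ (Φ.obj w).property
  have hl : (overCat V).p.IsHomLift (𝟙 (𝒲.p.obj w) ≫ 𝟙 (𝒲.p.obj w))
      (F.map (BasedBasic.appIso e₁ w).hom ≫ (Ψ.obj w).obj.iso.hom) := inferInstance
  have hr : (overCat V).p.IsHomLift (𝟙 (𝒲.p.obj w) ≫ 𝟙 (𝒲.p.obj w))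
      ((Φ.obj w).obj.iso.hom ≫ G.map (BasedBasic.appIso e₂ w).hom) := inferInstance
  rw [IsHomLift.fac' (overCat V).p (𝟙 (𝒲.p.obj w) ≫ 𝟙 (𝒲.p.obj w)) (F.map (BasedBasic.appIso e₁ w).hom ≫ (Ψ.obj w).obj.iso.hom),
    IsHomLift.fac' (overCat V).p (𝟙 (𝒲.p.obj w) ≫ 𝟙 (𝒲.p.obj w))
      ((Φ.obj w).obj.iso.hom ≫ G.map (BasedBasic.appIso e₂ w).hom)]

/-- The base change to an affine scheme has an affine chart with a flat relation. -/
theorem exists_affine_chart (h𝒳 : IsAlgStack Scheme.etalePrecoverage 𝒳)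
    (h𝒴 : IsAlgStack Scheme.etalePrecoverage 𝒴) {f : 𝒳 ⥤ᵇ 𝒴}
    (hqc : AlgSt.IsQuasiCompactMor Scheme.etalePrecoverage f)
    (hft : AlgSt.LocQ (LocP @LocallyOfFiniteType) f) {A : Type u} [CommRing A]
    {sA : Spec (CommRingCat.of A) ⟶ S} {y : overCat (Over.mk sA) ⥤ᵇ 𝒴}
    (hy : RepByAlgSpWith (LocP @Smooth) y) :
    ∃ (C : Type u) (_ : CommRing C) (_ : Algebra A C),
      LocallyOfFiniteType (str A C) ∧ Nonempty (Chart f y C) := by
  have : IsAffine (Over.mk sA).left := inferInstanceAs (IsAffine (Spec (CommRingCat.of A)))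
  have h' : IsAlgStack Scheme.etalePrecoverage (fp y f) :=
    OfCharts.isAlgStack_fp (isAlgStack_overCat_etale _) h𝒳 h𝒴 y f
  obtain ⟨U, x, hU, hx, hx'⟩ := hqc _ (isAlgStack_overCat_etale _) (isQuasiCompact_overCat_of_isAffine _) y
  let m : U ⟶ Over.mk sA := ChartLift.mapOf (BasedFunctor.comp x (fpFst y f))
  let f₀ : Spec Γ(U.left, ⊤) ⟶ Spec (CommRingCat.of A) := U.left.isoSpec.inv ≫ m.left
  let C : Type u := Γ(U.left, ⊤)
  let : Algebra A C := (Spec.preimage f₀).hom.toAlgebra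
  have hstr : str A C = U.left.isoSpec.inv ≫ m.left := Spec.map_preimage f₀
  let τ : Over.mk (str A C ≫ sA) ⟶ U := Over.homMk U.left.isoSpec.inv (by
    change U.left.isoSpec.inv ≫ U.hom = str A C ≫ sA
    rw [hstr, Category.assoc]
    exact congrArg _ (Over.w m).symm)
  have : IsIso τ.left := inferInstanceAs (IsIso U.left.isoSpec.inv)
  let u : overCat (Over.mk (str A C ≫ sA)) ⥤ᵇ fp y f := BasedFunctor.comp (overMap τ) x
  have hsm := Lib.SourceDescent.Scheme.smooth.{u}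
  have hu : RepByAlgSpWith (LocP @Smooth) u :=
    IsAlgFp.comp_locP hsm (Yoneda.isFibGrpd_overCat _) (Yoneda.isFibGrpd_overCat _)
      (Basic.rep_overMap_locP τ hsm inferInstance) hx
  have hu' : RepByAlgSpWith AlgSp.IsSurjectiveMor u :=
    IsAlgFp.comp_surjective (Yoneda.isFibGrpd_overCat _) (Yoneda.isFibGrpd_overCat _)
      (Basic.rep_overMap_surjective τ) hx'
  let eu : BasedFunctor.comp u (fpFst y f) ≅
      overMap (Over.homMk (str A C) rfl : Over.mk (str A C ≫ sA) ⟶ Over.mk sA) :=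
    BasedBasic.isoWhiskerLeft (overMap τ) (ChartLift.isoMapOf (BasedFunctor.comp x (fpFst y f))) ≪≫
      overMapComp τ m ≪≫ eqToIso (congrArg overMap (Over.OverMorphism.ext hstr.symm))
  refine ⟨C, inferInstance, inferInstance, ?_, exists_chart_rel h'.isStack.1 u eu hu hu'⟩
  exact lft_of_locQ h𝒳.isStack.1 h𝒴.isStack.1 h𝒴.diag hft
    (IsAlgFp.comp_locP hsm (Yoneda.isFibGrpd_overCat _) h'.isStack.1 hu
      (RepOver.repByAlgSpWith_fpSnd f hy)) hy
    (m := (Over.homMk (str A C) rfl : Over.mk (str A C ≫ sA) ⟶ Over.mk sA))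
    ((BasedBasic.isoWhiskerLeft u (fpIso y f)).symm ≪≫ BasedBasic.isoWhiskerRight eu y)

/-- Images of closed sets are closed on an affine chart over an affine noetherian chart of the base. -/
theorem isClosed_preimage_image (h𝒳 : IsAlgStack Scheme.etalePrecoverage 𝒳)
    (h𝒴 : IsAlgStack Scheme.etalePrecoverage 𝒴) (h𝒵 : IsAlgStack Scheme.etalePrecoverage 𝒵)
    {f : 𝒳 ⥤ᵇ 𝒴} (hqc : AlgSt.IsQuasiCompactMor Scheme.etalePrecoverage f)
    (hft : AlgSt.LocQ (LocP @LocallyOfFiniteType) f) (hval : DvrLifts f) (g : 𝒵 ⥤ᵇ 𝒴)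
    {A : Type u} [CommRing A] [IsNoetherianRing A] {sA : Spec (CommRingCat.of A) ⟶ S}
    {y : overCat (Over.mk sA) ⥤ᵇ 𝒴} (hy : RepByAlgSpWith (LocP @Smooth) y)
    (B : Type u) [CommRing B] [Algebra A B] (z : overCat (Over.mk (str A B ≫ sA)) ⥤ᵇ 𝒵)
    (e : BasedFunctor.comp z g ≅
      BasedFunctor.comp (overMap (Over.homMk (str A B) rfl : Over.mk (str A B ≫ sA) ⟶ Over.mk sA)) y)
    {F : Set (AlgSt.Points (fp g f))} (hF : IsClosed F) :
    IsClosed (AlgSt.Points.ofChart z ⁻¹' (AlgSt.Points.map (fpFst g f) '' F)) := by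
  have h' : IsAlgStack Scheme.etalePrecoverage (fp y f) :=
    OfCharts.isAlgStack_fp (isAlgStack_overCat_etale _) h𝒳 h𝒴 y f
  have hgf : IsAlgStack Scheme.etalePrecoverage (fp g f) :=
    OfCharts.isAlgStack_fp h𝒵 h𝒳 h𝒴 g f
  obtain ⟨C, _, _, _, ⟨K⟩⟩ := exists_affine_chart h𝒳 h𝒴 hqc hft hy
  have := K.flat
  have := K.lfp
  let UU : Over S := Over.mk (str A C ≫ sA)
  let VV : Over S := Over.mk sA
  let UB : Over S := Over.mk (str A B ≫ sA)
  let sC : UU ⟶ VV := Over.homMk (str A C) rfl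
  let jB : UB ⟶ VV := Over.homMk (str A B) rfl
  let PS : Over S := Over.mk (pullback.fst (str A C) (str A B) ≫ str A C ≫ sA)
  let p₁ : PS ⟶ UU := Over.homMk (pullback.fst _ _) rfl
  let p₂ : PS ⟶ UB := Over.homMk (pullback.snd _ _) (by
    change _ ≫ str A B ≫ sA = _ ≫ str A C ≫ sA
    rw [pullback.condition_assoc])
  have hp : p₂ ≫ jB = p₁ ≫ sC := Over.OverMorphism.ext pullback.condition.symm
  let Ψ : fp (overMap jB) (fpFst y f) ⥤ᵇ fp g f :=
    fpLift (BasedFunctor.comp (fpFst (overMap jB) (fpFst y f)) z)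
      (BasedFunctor.comp (fpSnd (overMap jB) (fpFst y f)) (fpSnd y f))
      (BasedBasic.isoWhiskerLeft (fpFst (overMap jB) (fpFst y f)) e ≪≫
        BasedBasic.isoWhiskerRight (fpIso (overMap jB) (fpFst y f)) y ≪≫
        BasedBasic.isoWhiskerLeft (fpSnd (overMap jB) (fpFst y f)) (fpIso y f))
  let κ' : overCat PS ⥤ᵇ fp (overMap jB) (fpFst y f) :=
    fpLift (overMap p₂) (BasedFunctor.comp (overMap p₁) K.u)
      (overMapComp p₂ jB ≪≫ eqToIso (congrArg overMap hp) ≪≫ (overMapComp p₁ sC).symm ≪≫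
        BasedBasic.isoWhiskerLeft (overMap p₁) K.u_fst.symm)
  let κ : overCat PS ⥤ᵇ fp g f := BasedFunctor.comp κ' Ψ
  let Z : Set ↥(pullback (str A C) (str A B)) := AlgSt.Points.ofChart κ ⁻¹' F
  have hZ : IsClosed Z := hF.preimage (continuous_ofChart hgf.isStack.1 hgf.atlas κ)
  have hsat : Saturated K.c.left K.l.left K.hcl (str A B) Z := by
    intro r hr
    let RB : Over S := Over.mk (pullback.fst (K.c.left ≫ str A C) (str A B) ≫ K.R.hom)
    let pr : RB ⟶ K.R := Over.homMk (pullback.fst _ _) rfl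
    let qc : RB ⟶ PS := Over.homMk (cBC K.c.left (str A B)) (by
      change cBC _ _ ≫ pullback.fst _ _ ≫ str A C ≫ sA = pullback.fst _ _ ≫ K.R.hom
      rw [cBC, pullback.lift_fst_assoc, Category.assoc]
      exact congrArg _ (Over.w K.c))
    let ql : RB ⟶ PS := Over.homMk (lBC K.c.left K.l.left K.hcl (str A B)) (by
      change lBC K.c.left K.l.left K.hcl (str A B) ≫ pullback.fst _ _ ≫ str A C ≫ sA = pullback.fst _ _ ≫ K.R.hom
      rw [lBC, pullback.lift_fst_assoc, Category.assoc]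
      exact congrArg _ (Over.w K.l))
    have h1 : qc ≫ p₂ = ql ≫ p₂ := Over.OverMorphism.ext (by
      change cBC _ _ ≫ pullback.snd _ _ = lBC K.c.left K.l.left K.hcl (str A B) ≫ pullback.snd _ _
      rw [cBC, lBC, pullback.lift_snd, pullback.lift_snd, Category.comp_id])
    have h2 : qc ≫ p₁ = pr ≫ K.c := Over.OverMorphism.ext (by
      change cBC _ _ ≫ pullback.fst _ _ = pullback.fst _ _ ≫ K.c.left
      rw [cBC, pullback.lift_fst])
    have h3 : ql ≫ p₁ = pr ≫ K.l := Over.OverMorphism.ext (by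
      change lBC K.c.left K.l.left K.hcl (str A B) ≫ pullback.fst _ _ = pullback.fst _ _ ≫ K.l.left
      rw [lBC, pullback.lift_fst])
    let E : BasedFunctor.comp (overMap qc) κ' ≅ BasedFunctor.comp (overMap ql) κ' :=
      fpExt (overMapComp qc p₂ ≪≫ eqToIso (congrArg overMap h1) ≪≫ (overMapComp ql p₂).symm)
        (eqToIso (by
          change BasedFunctor.comp (overMap qc) (BasedFunctor.comp (overMap p₁) K.u) = _
          rw [comp_overMap, h2, ← comp_overMap]) ≪≫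
          BasedBasic.isoWhiskerLeft (overMap pr) K.iso ≪≫ eqToIso (by
          change _ = BasedFunctor.comp (overMap ql) (BasedFunctor.comp (overMap p₁) K.u)
          rw [comp_overMap, comp_overMap, h3]))
        (compat_slice _ _)
    show AlgSt.Points.ofChart κ _ ∈ F
    have := Points.ofChart_eq_of_iso (x := κ) (y := κ) qc ql (BasedBasic.isoWhiskerRight E Ψ) r
    exact this ▸ hr
  suffices h : AlgSt.Points.ofChart z ⁻¹' (AlgSt.Points.map (fpFst g f) '' F) =
      pullback.snd (str A C) (str A B) '' Z by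
    rw [h]
    exact isClosed_image K.c.left K.l.left K.hcl
      (fun P _ _ _ D hD hs u hu q hq => K.specializes_mem hval h'.isStack.1 P D hD hs u hu q hq)
      B hZ hsat
  ext b
  constructor
  · rintro ⟨q, hq, hqb⟩
    obtain ⟨Q, ξ, v, rfl⟩ := Points.exists_ofChart_eq hgf.isStack.1 q
    obtain ⟨W, a, b', w, rfl, rfl, ⟨η⟩⟩ := Points.exists_of_ofChart_eq h𝒵.isStack.1
      (x := BasedFunctor.comp ξ (fpFst g f)) (y := z) hqb
    let ζ : overCat W ⥤ᵇ fp y f :=
      fpLift (BasedFunctor.comp (overMap b') (overMap jB))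
        (BasedFunctor.comp (BasedFunctor.comp (overMap a) ξ) (fpSnd g f))
        (BasedBasic.isoWhiskerLeft (overMap b') e.symm ≪≫ BasedBasic.isoWhiskerRight η.symm g ≪≫
          BasedBasic.isoWhiskerLeft (BasedFunctor.comp (overMap a) ξ) (fpIso g f))
    obtain ⟨W₂, c₂, l₂, w₂, -, -, ⟨ec⟩, ⟨el⟩, -, -, hsu, -⟩ := ChartLift.exists_chart.{u}
      h'.isStack.1 ζ (a := K.u) (Rep.repByAlgSp1_of_repByAlgSpWith K.smooth)
    have := hsu K.surj
    let E₂ : BasedFunctor.comp (overMap c₂) ζ ≅ BasedFunctor.comp (overMap l₂) K.u :=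
      BasedBasic.isoWhiskerRight ec.symm ζ ≪≫ BasedBasic.isoWhiskerLeft w₂ (fpIso ζ K.u) ≪≫
        BasedBasic.isoWhiskerRight el K.u
    have hl : l₂ ≫ sC = c₂ ≫ b' ≫ jB := eq_of_iso ((overMapComp l₂ sC).symm ≪≫
      BasedBasic.isoWhiskerLeft (overMap l₂) K.u_fst.symm ≪≫
      BasedBasic.isoWhiskerRight E₂.symm (fpFst y f) ≪≫
      BasedBasic.isoWhiskerLeft (overMap c₂) (overMapComp b' jB) ≪≫ overMapComp c₂ (b' ≫ jB))
    let lB : W₂ ⟶ PS := Over.homMk (pullback.lift l₂.left (c₂.left ≫ b'.left)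
      ((congrArg CommaMorphism.left hl).trans (Category.assoc _ _ _).symm)) (by
      change pullback.lift _ _ _ ≫ pullback.fst _ _ ≫ str A C ≫ sA = W₂.hom
      rw [pullback.lift_fst_assoc]
      exact Over.w l₂)
    have h1 : lB ≫ p₁ = l₂ := Over.OverMorphism.ext (pullback.lift_fst _ _ _)
    have h2 : lB ≫ p₂ = c₂ ≫ b' := Over.OverMorphism.ext (pullback.lift_snd _ _ _)
    let ζ' : overCat W ⥤ᵇ fp (overMap jB) (fpFst y f) := fpLift (overMap b') ζ (Iso.refl _)
    let E₃ : BasedFunctor.comp (overMap lB) κ' ≅ BasedFunctor.comp (overMap c₂) ζ' :=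
      fpExt (overMapComp lB p₂ ≪≫ eqToIso (congrArg overMap h2) ≪≫ (overMapComp c₂ b').symm)
        (eqToIso (by
          change BasedFunctor.comp (overMap lB) (BasedFunctor.comp (overMap p₁) K.u) = _
          rw [comp_overMap, h1]) ≪≫ E₂.symm)
        (compat_slice _ _)
    let E₄ : BasedFunctor.comp ζ' Ψ ≅ BasedFunctor.comp (overMap a) ξ :=
      fpExt η.symm (Iso.refl _) fun x => by
        change g.map (BasedBasic.appIso η x).inv ≫ (ξ.obj ((overMap a).obj x)).obj.iso.hom =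
          ((BasedBasic.appIso e ((overMap b').obj x)).hom ≫ y.map (𝟙 _) ≫
            ((BasedBasic.appIso e ((overMap b').obj x)).inv ≫ g.map (BasedBasic.appIso η x).inv ≫
              (ξ.obj ((overMap a).obj x)).obj.iso.hom)) ≫ f.map (𝟙 _)
        rw [f.toFunctor.map_id, y.toFunctor.map_id]
        refine ((Category.comp_id _).trans ?_).symm
        exact (congrArg (_ ≫ ·) (Category.id_comp _)).trans (Iso.hom_inv_id_assoc _ _)
    obtain ⟨v₂, hv₂⟩ := c₂.left.surjective w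
    refine ⟨lB.left v₂, ?_, ?_⟩
    · show AlgSt.Points.ofChart κ _ ∈ F
      have h3 : AlgSt.Points.ofChart κ (lB.left v₂) =
          AlgSt.Points.ofChart (BasedFunctor.comp ζ' Ψ) (c₂.left v₂) :=
        Points.ofChart_eq_of_iso (x := κ) (y := BasedFunctor.comp ζ' Ψ) lB c₂
          (BasedBasic.isoWhiskerRight E₃ Ψ) v₂
      rw [h3, hv₂, Points.ofChart_iso E₄, Points.ofChart_overMap]
      exact hq
    · rw [← hv₂]
      exact congrArg (fun h : W₂ ⟶ UB => h.left v₂) h2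
  · rintro ⟨p, hp', rfl⟩
    exact ⟨_, hp', (Points.map_ofChart _ κ p).trans (Points.ofChart_overMap p₂ z p)⟩

end Groth.Agent.H14.DvrUC
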