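import Groth.Agent.H14.Chart.Points
import Groth.Agent.Lib.AlgSpMor.QC
import Groth.Agent.Lib.AlgStack.Diag

/-!
Classes of points of an affine chart of a quasi-separated stack are images of affine schemes.
-/

set_option autoImplicit false
set_option backward.isDefEq.respectTransparency false
set_option backward.isDefEq.respectTransparency.types false

universe u

open CategoryTheory CategoryTheory.Limits AlgebraicGeometry

namespace Groth.Agent.H14.DvrUC

open Groth.Agent.Lib.AlgStack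
open Groth.Agent.H14.Chart
open Groth.Agent.H14.Sep.Lft (vOf)
open FibCat (IsEquivOver fp fpFst fpSnd fpLift fpIso overCat IsFibGrpd)
open AlgSt (ofSp ofSpMap ofOverCat spMapOfOver overMap RepByAlgSp1 RepByAlgSpWith)
open AlgSp (Sp yon IsAlgSpace RepWith)

/-- A point in the closure of the image of an affine scheme in an affine scheme specializes from a point of
the image. -/
theorem exists_specializes_of_mem_closure {X Y : Scheme.{u}} [IsAffine X] [IsAffine Y] (m : X ⟶ Y)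
    {t₀ : ↥Y} (hcl : t₀ ∈ closure (Set.range m)) : ∃ c, m c ⤳ t₀ := by
  obtain ⟨φ, hφ⟩ := Spec.map_surjective (X.isoSpec.inv ≫ m ≫ Y.isoSpec.hom)
  have h1 : Y.isoSpec.hom t₀ ∈ closure (Set.range (PrimeSpectrum.comap φ.hom)) := by
    refine map_mem_closure Y.isoSpec.hom.continuous hcl ?_
    rintro _ ⟨c, rfl⟩
    refine ⟨X.isoSpec.hom c, ?_⟩
    change Spec.map φ (X.isoSpec.hom c) = _
    rw [hφ, ← Scheme.Hom.comp_apply, Iso.hom_inv_id_assoc]
    rfl
  rw [PrimeSpectrum.closure_range_comap, PrimeSpectrum.mem_zeroLocus] at h1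
  obtain ⟨q, hq, hq'⟩ := Ideal.exists_minimalPrimes_le (J := (Y.isoSpec.hom t₀).asIdeal) h1
  obtain ⟨q', hq₁, -, hq₂⟩ := Ideal.exists_comap_eq_of_mem_minimalPrimes φ.hom (I := ⊥) q hq
  refine ⟨X.isoSpec.inv ⟨q', hq₁⟩, ?_⟩
  have h2 : Spec.map φ ⟨q', hq₁⟩ ⤳ Y.isoSpec.hom t₀ :=
    (PrimeSpectrum.le_iff_specializes _ _).1 (show (q'.comap φ.hom) ≤ _ by rw [hq₂]; exact hq')
  have h3 := h2.map Y.isoSpec.inv.continuous
  rw [hφ, ← Scheme.Hom.comp_apply, ← Scheme.Hom.comp_apply, Category.assoc, Category.assoc,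
    Iso.hom_inv_id, Category.comp_id, Scheme.Hom.comp_apply] at h3
  exact h3

variable {S : Scheme.{u}} [QuasiSeparatedSpace S] {𝒳 : AlgSt.Cat S}

/-- The points of an affine chart with the same image as a given point form the image of an affine scheme. -/
theorem exists_affine_class (h : IsFibGrpd 𝒳.p)
    (hΔ : RepByAlgSpWith AlgSp.IsQuasiCompactMor (FibCat.diag (FibCat.toSelf 𝒳))) {U : Over S}
    [IsAffine U.left] (x : overCat U ⥤ᵇ 𝒳) (c₀ : ↥U.left) :
    ∃ (T : Over S) (_ : IsAffine T.left) (v : T ⟶ U),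
      Set.range v.left = {c | AlgSt.Points.ofChart x c = AlgSt.Points.ofChart x c₀} := by
  let V : Over S := Over.mk (U.left.fromSpecResidueField c₀ ≫ U.hom)
  have : IsAffine V.left := inferInstanceAs (IsAffine (Spec (U.left.residueField c₀)))
  let j : V ⟶ U := Over.homMk (U.left.fromSpecResidueField c₀) rfl
  have hj : ∀ p, j.left p = c₀ := fun p => Scheme.fromSpecResidueField_apply c₀ p
  let y : overCat V ⥤ᵇ 𝒳 := BasedFunctor.comp (overMap j) x
  have : QuasiCompact U.hom := quasiCompact_of_compactSpace _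
  have : CompactSpace ↥(V ⨯ U).left := (Over.prodLeftIsoPullback V U).symm.schemeIsoToHomeo.compactSpace
  let z := Diag.pair (BasedFunctor.comp (fpFst (FibCat.toSelf (overCat V)) (FibCat.toSelf (overCat U))) y)
    (BasedFunctor.comp (fpSnd (FibCat.toSelf (overCat V)) (FibCat.toSelf (overCat U))) x)
  obtain ⟨G, e₀, he₀, hq⟩ := hΔ (V ⨯ U) (BasedFunctor.comp (Diag.prodToFp V U) z)
  have hGc : CompactSpace (AlgSp.Points G.obj) := Lib.AlgSpMor.QC.compactSpace_points
    (hq (IsAlgSpace.yon_obj (V ⨯ U)) Lib.AlgSpMor.QC.isQuasiCompactSp_yon (𝟙 _) (𝟙 _) _ IsPullback.of_id_fst)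
  have : (BasedFunctor.id (fp (FibCat.toSelf 𝒳) (FibCat.toSelf 𝒳))).toFunctor.Full :=
    inferInstanceAs (𝟭 (fp (FibCat.toSelf 𝒳) (FibCat.toSelf 𝒳)).obj).Full
  have : (BasedFunctor.id (fp (FibCat.toSelf 𝒳) (FibCat.toSelf 𝒳))).toFunctor.Faithful :=
    inferInstanceAs (𝟭 (fp (FibCat.toSelf 𝒳) (FibCat.toSelf 𝒳)).obj).Faithful
  have h1 := FibProd.isEquivOver_fpMap (Diag.prodToFp V U) (BasedFunctor.id 𝒳)
    (BasedFunctor.id (fp (FibCat.toSelf 𝒳) (FibCat.toSelf 𝒳))) (F := z) (G := FibCat.diag (FibCat.toSelf 𝒳))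
    (F' := BasedFunctor.comp (Diag.prodToFp V U) z) (G' := FibCat.diag (FibCat.toSelf 𝒳))
    (Iso.refl _) (Iso.refl _) (Diag.isEquivOver_prodToFp V U) BasedBasic.isEquivOver_id
  obtain ⟨inv, hinv, -, -⟩ :=
    BasedBasic.IsEquivOver.exists_inverse (Diag.isEquivOver_toDiagPullback y x)
  obtain ⟨e, he⟩ : ∃ e : ofSp G.obj ⥤ᵇ fp y x, IsEquivOver e :=
    ⟨_, BasedBasic.IsEquivOver.comp (BasedBasic.IsEquivOver.comp he₀ h1) hinv⟩
  obtain ⟨T, p, hT, -, hps⟩ := @Lib.AlgSpMor.QC.exists_affine_atlas S G.obj G.property hGc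
  let γ : G.obj ⟶ (yon S).obj V := spMapOfOver (BasedFunctor.comp e (fpFst y x))
  let δ : G.obj ⟶ (yon S).obj U := spMapOfOver (BasedFunctor.comp e (fpSnd y x))
  obtain ⟨s, hs⟩ := (yon S).map_surjective (p ≫ γ)
  obtain ⟨v, hv⟩ := (yon S).map_surjective (p ≫ δ)
  let η : overCat T ⥤ᵇ fp y x :=
    BasedFunctor.comp (ofOverCat T) (BasedFunctor.comp (ofSpMap p) e)
  let ι₁ : BasedFunctor.comp η (fpFst y x) ≅ vOf s :=
    BasedBasic.isoWhiskerLeft (ofOverCat T)
      (Rep.isoSpMapOfOver (BasedFunctor.comp (ofSpMap p) (BasedFunctor.comp e (fpFst y x))) ≪≫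
        eqToIso (by rw [Rep.spMapOfOver_precomp, hs]))
  let ι₂ : BasedFunctor.comp η (fpSnd y x) ≅ vOf v :=
    BasedBasic.isoWhiskerLeft (ofOverCat T)
      (Rep.isoSpMapOfOver (BasedFunctor.comp (ofSpMap p) (BasedFunctor.comp e (fpSnd y x))) ≪≫
        eqToIso (by rw [Rep.spMapOfOver_precomp, hv]))
  let β : BasedFunctor.comp (overMap s) y ≅ BasedFunctor.comp (overMap v) x :=
    (BasedBasic.isoWhiskerRight ι₁ y).symm ≪≫ BasedBasic.isoWhiskerLeft η (fpIso y x) ≪≫
      BasedBasic.isoWhiskerRight ι₂ x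
  refine ⟨T, hT, v, Set.ext fun c => ⟨?_, fun hc => ?_⟩⟩
  · rintro ⟨t, rfl⟩
    have := Points.ofChart_eq_of_iso s v β t
    rw [Points.ofChart_overMap, hj] at this
    exact this.symm
  · let pt : ↥V.left := IsLocalRing.closedPoint (U.left.residueField c₀)
    have hy : AlgSt.Points.ofChart y pt = AlgSt.Points.ofChart x c := by
      rw [Points.ofChart_overMap, hj]; exact hc.symm
    obtain ⟨W, a', b', w, -, hbw, ⟨β'⟩⟩ := Points.exists_of_ofChart_eq h hy
    obtain ⟨g, -, ⟨ι⟩⟩ := Points.exists_hom_of_iso he a' (overMap b') β'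
    have hg₂ : g ≫ δ = (yon S).map b' := by
      rw [← Rep.spMapOfOver_precomp, ← Points.spMap_toOverCat_overMap]
      exact Rep.spMapOfOver_eq_of_iso ι
    obtain ⟨t, ht⟩ := Lib.AlgSpace.surjective_ofPt hps (AlgSp.Points.ofPt g w)
    obtain ⟨W', k, d, w', rfl, rfl, hkd⟩ := (Lib.AlgSpace.ofPt_eq_ofPt_iff p g t w).1 ht
    refine ⟨k.left w', ?_⟩
    have : k ≫ v = d ≫ b' := (yon S).map_injective (by
      rw [Functor.map_comp, Functor.map_comp, hv, ← hg₂, reassoc_of% hkd])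
    rw [← hbw, ← Scheme.Hom.comp_apply, ← Scheme.Hom.comp_apply, ← Over.comp_left, ← Over.comp_left,
      this]

end Groth.Agent.H14.DvrUC
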